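import Mathlib
import Cfsg.Agent.Lib.S0665.Above75
import Cfsg.Agent.Lib.S0665.CountCore93

/-!
# The count case of a configuration

For a configuration `(K, D, Zc)` with `K` in a unique maximal subgroup, outside `O₂`, and `D`
spanning, `K` fixes the image of `D` in every irreducible section over the core of `D`. Hence for
every invariant `S` outside `D` the order of `K` modulo `O₂` is less than the index of `D` in `S`.
-/

set_option autoImplicit false

namespace Cfsg.Agent.Lib.S0665.CountCase85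

open Cfsg Cfsg.Agent.Lib
open Cfsg.Agent.Lib.SFourFree
open Cfsg.Agent.Lib.SFourFree.Closure (NoInv Stable orb)
open Cfsg.Agent.Lib.S0665.Above (core core_le core_inv le_core)

universe u v

variable {L : Type v} [Group L] [Finite L] {W : Type u} [AddCommGroup W] [Finite W]
  [DistribMulAction L W] {K M : Subgroup L} {D Zc : AddSubgroup W}

/-- **The count case.** -/
theorem countCase (h2 : ∀ w : W, w + w = 0) (hni : NoInv L) (hc : Config K D Zc)
    (huniq : ∀ H, K ≤ H → H ≠ ⊤ → H ≤ M) (hKQ : ¬ K ≤ pCore 2 L) (hM : M ≠ ⊤)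
    (hspan : orb (⊤ : Subgroup L) D = ⊤) {A : AddSubgroup W} (hA : Gain.Cover L (core L D) A)
    (hex : ∃ k ∈ K, ∃ d ∈ A, d ∈ D ∧ k • d - d ∉ core L D) : False := by
  have hQ := (Above.section_facts h2 hni hc huniq hKQ hM hspan hA).1
  have hnD := Above.not_le_D hA
  obtain ⟨hlt, hI, hAi, hmid⟩ := hA
  let : DistribMulAction L ↥A :=
    { smul := fun l a => ⟨l • (a : W), hAi l a a.2⟩
      one_smul := fun a => Subtype.ext (one_smul L (a : W))
      mul_smul := fun l m a => Subtype.ext (mul_smul l m (a : W))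
      smul_zero := fun l => Subtype.ext (smul_zero l)
      smul_add := fun l a b => Subtype.ext (smul_add l (a : W) b) }
  set J : AddSubgroup ↥A := (core L D).addSubgroupOf A with hJ
  let : DistribMulAction L (↥A ⧸ J) :=
    DistribMulAction.compHom _ (PMinimal.quotAct J fun l a ha => hI l a ha)
  have hsm : ∀ (l : L) (a : ↥A),
      l • (QuotientAddGroup.mk a : ↥A ⧸ J) = QuotientAddGroup.mk (l • a) := fun l a => rfl
  have hdev : ∀ (l : L) (a : ↥A), l • (QuotientAddGroup.mk a : ↥A ⧸ J) - QuotientAddGroup.mk a =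
      QuotientAddGroup.mk (l • a - a) := fun l a => by rw [hsm, ← QuotientAddGroup.mk_sub]
  have h0 : ∀ a : ↥A, (QuotientAddGroup.mk a : ↥A ⧸ J) = 0 ↔ (a : W) ∈ core L D := fun a => by
    rw [QuotientAddGroup.eq_zero_iff, hJ, AddSubgroup.mem_addSubgroupOf]
  set DA : AddSubgroup (↥A ⧸ J) := ((A ⊓ D).addSubgroupOf A).map (QuotientAddGroup.mk' J) with hDA
  set ZA : AddSubgroup (↥A ⧸ J) :=
    ((A ⊓ (Zc ⊔ core L D)).addSubgroupOf A).map (QuotientAddGroup.mk' J) with hZA
  have hZle : Zc ⊔ core L D ≤ D := sup_le hc.zle (core_le D)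
  have hmemD : ∀ a : ↥A, (QuotientAddGroup.mk a : ↥A ⧸ J) ∈ DA ↔ (a : W) ∈ D := by
    intro a
    constructor
    · rintro ⟨b, hb, he⟩
      have h1 := (h0 (b - a)).1 (by rw [QuotientAddGroup.mk_sub]; exact sub_eq_zero.2 he)
      rw [AddSubgroup.coe_sub] at h1
      have := D.sub_mem (show (b : W) ∈ D from hb.2) (core_le D h1)
      rwa [sub_sub_cancel] at this
    · exact fun h => ⟨a, ⟨a.2, h⟩, rfl⟩
  have hmemZ : ∀ a : ↥A, (a : W) ∈ Zc ⊔ core L D → (QuotientAddGroup.mk a : ↥A ⧸ J) ∈ ZA :=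
    fun a h => ⟨a, ⟨a.2, h⟩, rfl⟩
  have hirr : ∀ S : AddSubgroup (↥A ⧸ J), Stable (⊤ : Subgroup L) S → S = ⊥ ∨ S = ⊤ := by
    intro S hS
    set S' := (S.comap (QuotientAddGroup.mk' J)).map A.subtype with hS'
    have h1 : Gain.Inv L S' := by
      rintro l _ ⟨a, ha, rfl⟩
      refine ⟨l • a, ?_, rfl⟩
      show QuotientAddGroup.mk (l • a) ∈ S
      rw [← hsm]
      exact hS l (Subgroup.mem_top l) _ ha
    have h2' : core L D ≤ S' := fun w hw => ⟨⟨w, hlt.le hw⟩, by
      show QuotientAddGroup.mk (⟨w, hlt.le hw⟩ : ↥A) ∈ S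
      rw [(h0 _).2 hw]
      exact S.zero_mem, rfl⟩
    have h3 : S' ≤ A := by
      rintro _ ⟨a, -, rfl⟩; exact a.2
    rcases hmid S' h1 h2' h3 with h | h
    · refine Or.inl ((AddSubgroup.eq_bot_iff_forall S).2 fun x hx => ?_)
      induction x using QuotientAddGroup.induction_on with
      | H a => exact (h0 a).2 (h.le ⟨a, hx, rfl⟩)
    · refine Or.inr (eq_top_iff.2 fun x _ => ?_)
      induction x using QuotientAddGroup.induction_on with
      | H a =>
        obtain ⟨b, hb, hab⟩ := h.ge a.2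
        rwa [show a = b from Subtype.ext hab.symm]
  have hne : DA ≠ ⊤ := by
    intro h
    exact hnD fun a ha => (hmemD ⟨a, ha⟩).1 (h.ge (AddSubgroup.mem_top _))
  obtain ⟨k1, hk1, d1, hd1A, hd1D, hd1⟩ := hex
  have hS : CountCore.Surj K M DA ZA := by
    refine ⟨hc.sq, ?_, hne, ?_, ?_, ?_, ?_, huniq, hM,
      fun k hk h hkh hh => Above.mem_pCore_of_conj_mem hni hc huniq hk hkh hh, ?_, ?_⟩
    · rintro _ ⟨a, ha, rfl⟩
      exact ⟨a, ⟨a.2, hZle ha.2⟩, rfl⟩
    · intro k hk x
      induction x using QuotientAddGroup.induction_on with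
      | H a =>
        rw [hdev, hmemD]
        exact hc.mem_D k hk a
    · rintro k hk _ ⟨a, ha, rfl⟩
      rw [QuotientAddGroup.mk'_apply, hdev]
      exact hmemZ _ (AddSubgroup.mem_sup_left (hc.mem_Zc k hk a ha.2))
    · rintro k hk _ ⟨a, ha, rfl⟩
      obtain ⟨z, hz, i, hi, hsum⟩ := AddSubgroup.mem_sup.1 ha.2
      rw [QuotientAddGroup.mk'_apply, ← sub_eq_zero, hdev, h0]
      show k • (a : W) - (a : W) ∈ core L D
      rw [show (a : W) = z + i from hsum.symm, smul_add, hc.fix_Zc k hk z hz, add_sub_add_left_eq_sub]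
      exact Above.sub_mem_core hi k
    · intro y hy x hx
      induction y using QuotientAddGroup.induction_on with
      | H b =>
        obtain ⟨a, ha, rfl⟩ := hx
        obtain ⟨k, hk, hkd⟩ := hc.surj b (fun h => hy ((hmemD b).2 h)) a ha.2
        refine ⟨k, hk, ?_⟩
        rw [QuotientAddGroup.mk'_apply, hdev, ← QuotientAddGroup.mk_sub]
        exact hmemZ _ (AddSubgroup.mem_sup_left hkd)
    · intro S hSst hSle
      exact (hirr S hSst).resolve_right fun h => hne (eq_top_iff.2 (h ▸ hSle))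
    · intro S hSst hle
      refine (hirr S hSst).resolve_left fun h => hd1 ?_
      have h1 := (h0 ⟨d1, hd1A⟩).1 (AddSubgroup.mem_bot.1 (h ▸ hle ((hmemD _).2 hd1D)))
      exact Above.sub_mem_core h1 k1
  refine CountCore.count (fun x => ?_) hni hS
    ⟨k1, hk1, QuotientAddGroup.mk ⟨d1, hd1A⟩, (hmemD _).2 hd1D, fun h => ?_⟩ fun q hq x => ?_
  · induction x using QuotientAddGroup.induction_on with
    | H a => rw [← QuotientAddGroup.mk_add, show a + a = 0 from Subtype.ext (h2 a)]; rfl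
  · rw [← sub_eq_zero, hdev, h0] at h
    exact hd1 h
  · induction x using QuotientAddGroup.induction_on with
    | H a =>
      rw [← sub_eq_zero, hdev, h0]
      exact hQ q hq a a.2

/-- For every invariant `S` outside `D` the section bound holds. -/
theorem relIndex_lt (h2 : ∀ w : W, w + w = 0) (hni : NoInv L) (hc : Config K D Zc)
    (huniq : ∀ H, K ≤ H → H ≠ ⊤ → H ≤ M) (hKQ : ¬ K ≤ pCore 2 L) (hM : M ≠ ⊤)
    (hspan : orb (⊤ : Subgroup L) D = ⊤) {S : AddSubgroup W} (hS : Stable (⊤ : Subgroup L) S)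
    (hSD : ¬ S ≤ D) : (pCore 2 L).relIndex K < D.relIndex S := by
  rcases Above.cover_or_lt h2 hni hc huniq hKQ hM hspan
    (fun l w hw => hS l (Subgroup.mem_top l) w hw) hSD with ⟨A, hA, -, hex⟩ | h
  · exact (countCase h2 hni hc huniq hKQ hM hspan hA hex).elim
  · have h1 : (pCore 2 L).relIndex K * Nat.card ↥(K ⊓ pCore 2 L) = Nat.card K := by
      rw [← Subgroup.inf_relIndex_left, Subgroup.relIndex,
        ← Nat.card_congr (Subgroup.subgroupOfEquivOfLe (inf_le_left : K ⊓ pCore 2 L ≤ K)).toEquiv,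
        Subgroup.index_mul_card]
    rw [← h1, mul_comm] at h
    exact Nat.lt_of_mul_lt_mul_left h

end Cfsg.Agent.Lib.S0665.CountCase85
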