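import Mathlib
import Cfsg.Agent.Lib.S0665.Glue84
import Cfsg.Agent.Lib.S0665.Above75
import Cfsg.Agent.Lib.S0665.LemmaX75
import Cfsg.Agent.Lib.S0665.CountCore93

/-!
# The final case from the counting case

With the counting case given, the final case of Theorem T does not occur: either a section above
the core of `D` has moved image of `D` (counting case), or Lemma X applies.
-/

set_option autoImplicit false
set_option linter.unusedSectionVars false

namespace Cfsg.Agent.Lib.S0665.Final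

open Subgroup Cfsg Cfsg.Agent.Lib
open Cfsg.Agent.Lib.SFourFree
open Cfsg.Agent.Lib.SFourFree.Closure (NoInv Stable orb)
open Cfsg.Agent.Lib.S0665.Above (core)

universe u

/-- The counting case does not occur. -/
def CountStmt : Prop :=
  ∀ (L W : Type u) [Group L] [Finite L] [AddCommGroup W] [Finite W] [DistribMulAction L W],
    (∀ w : W, w + w = 0) → NoInv L → ∀ (K M : Subgroup L) (D Zc : AddSubgroup W),
    Config K D Zc → M ≠ ⊤ → (∀ H, K ≤ H → H ≠ ⊤ → H ≤ M) → ¬ K ≤ pCore 2 L →
    orb (⊤ : Subgroup L) D = ⊤ → ∀ A : AddSubgroup W, Gain.Cover L (core L D) A →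
    (∃ k ∈ K, ∃ d ∈ A, d ∈ D ∧ k • d - d ∉ core L D) → False

theorem finalStmt_of_count (hC : CountStmt.{u}) : Glue.FinalStmt.{u} := by
  intro L W _ _ _ _ _ _ T K M V D Zc h
  have : Fact (Nat.Prime 2) := ⟨Nat.prime_two⟩
  have hspanD := h.span_D
  have hQT : pCore 2 L ≤ (T : Subgroup L) := PSolvable.pCore_le_sylow T
  have hbeta := LemmaX.exists_moved h.config (h.strict.mono h.le_T)
  obtain ⟨g, hg⟩ : ∃ g : L, g ∉ M := by
    by_contra hall
    push Not at hall
    exact h.ne_top (eq_top_iff.2 fun x _ => hall x)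
  have hgen : Subgroup.normalClosure (K : Set L) = ⊤ := by
    refine eq_top_iff.2 ((h.gen hg).ge.trans (sup_le le_normalClosure ?_))
    rintro _ ⟨k, hk, rfl⟩
    exact normalClosure_normal.conj_mem k (subset_normalClosure hk) g
  refine LemmaX.false_of_small h.two PSolvable.pCore_isPGroup h.config hgen
    (fun q hq v hv => h.stableV q (hQT hq) v hv) h.le_D h.span (h.strictV.mono h.le_T) hbeta
    fun S hS hSD => ?_
  rcases Above.cover_or_lt h.two h.noInv h.config h.uniq h.not_le h.ne_top hspanD hS hSD with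
    ⟨A, hA, -, hex⟩ | hlt
  · exact (hC L W h.two h.noInv K M D Zc h.config h.ne_top h.uniq h.not_le hspanD A hA hex).elim
  · exact hlt

set_option maxHeartbeats 400000 in
/-- **The counting case does not occur**: apply the count to the section. -/
theorem countStmt : CountStmt.{u} := by
  intro L W _ _ _ _ _ h2 hni K M D Zc hc hM huniq hKQ hspan A hA hex
  have : Fact (Nat.Prime 2) := ⟨Nat.prime_two⟩
  have hfacts := Above.section_facts h2 hni hc huniq hKQ hM hspan hA
  have hnle := Above.not_le_D hA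
  obtain ⟨hlt, hI, hAi, hmid⟩ := hA
  let : DistribMulAction L ↥A :=
    { smul := fun l a => ⟨l • (a : W), hAi l a a.2⟩
      one_smul := fun a => Subtype.ext (one_smul L (a : W))
      mul_smul := fun l m a => Subtype.ext (mul_smul l m (a : W))
      smul_zero := fun l => Subtype.ext (smul_zero l)
      smul_add := fun l a b => Subtype.ext (smul_add l (a : W) b) }
  set J : AddSubgroup ↥A := (core L D).addSubgroupOf A with hJ
  let : DistribMulAction L (↥A ⧸ J) :=
    DistribMulAction.compHom _ (PMinimal.quotAct J fun l a ha => hI l a ha)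
  have hsm : ∀ (l : L) (a : ↥A),
      l • (QuotientAddGroup.mk a : ↥A ⧸ J) = QuotientAddGroup.mk (l • a) := fun l a => rfl
  have hmk0 : ∀ a : ↥A, ((QuotientAddGroup.mk a : ↥A ⧸ J) = 0 ↔ (a : W) ∈ core L D) := fun a => by
    rw [QuotientAddGroup.eq_zero_iff, hJ, AddSubgroup.mem_addSubgroupOf]
  let im : AddSubgroup W → AddSubgroup (↥A ⧸ J) :=
    fun X => (X.addSubgroupOf A).map (QuotientAddGroup.mk' J)
  have him : ∀ (X : AddSubgroup W) (a : ↥A), (a : W) ∈ X →
      (QuotientAddGroup.mk a : ↥A ⧸ J) ∈ im X := fun X a ha => ⟨a, ha, rfl⟩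
  have himD : ∀ a : ↥A, (QuotientAddGroup.mk a : ↥A ⧸ J) ∈ im D → (a : W) ∈ D := by
    rintro a ⟨b, hb, he⟩
    have h1 : ((a - b : ↥A) : W) ∈ core L D := (hmk0 _).1 (by
      rw [QuotientAddGroup.mk_sub, sub_eq_zero]; exact he.symm)
    have h3 : ((a - b : ↥A) : W) + (b : W) ∈ D := D.add_mem (Above.core_le D h1) hb
    rwa [AddSubgroup.coe_sub, sub_add_cancel] at h3
  have hsimple : ∀ Y : AddSubgroup (↥A ⧸ J), Stable (⊤ : Subgroup L) Y → Y = ⊥ ∨ Y = ⊤ := by
    intro Y hY
    set Y' := (Y.comap (QuotientAddGroup.mk' J)).map A.subtype with hY'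
    have h1 : Gain.Inv L Y' := by
      rintro l _ ⟨a, ha, rfl⟩
      refine ⟨l • a, ?_, rfl⟩
      show QuotientAddGroup.mk (l • a) ∈ Y
      rw [← hsm]
      exact hY l (mem_top l) _ ha
    have h2' : core L D ≤ Y' := fun w hw => ⟨⟨w, hlt.le hw⟩, by
      show QuotientAddGroup.mk (⟨w, hlt.le hw⟩ : ↥A) ∈ Y
      rw [(hmk0 _).2 hw]
      exact Y.zero_mem, rfl⟩
    have h3 : Y' ≤ A := by
      rintro _ ⟨a, -, rfl⟩; exact a.2
    rcases hmid Y' h1 h2' h3 with h | h
    · refine Or.inl ((AddSubgroup.eq_bot_iff_forall Y).2 fun x hx => ?_)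
      induction x using QuotientAddGroup.induction_on with
      | H a => exact (hmk0 a).2 (h.le ⟨a, hx, rfl⟩)
    · refine Or.inr (eq_top_iff.2 fun x _ => ?_)
      induction x using QuotientAddGroup.induction_on with
      | H a =>
        obtain ⟨b, hb, hab⟩ := h.ge a.2
        rwa [show a = b from Subtype.ext hab.symm]
  obtain ⟨k₁, hk₁, d₁, hd₁A, hd₁D, hd₁⟩ := hex
  have hne_top : im D ≠ ⊤ := fun h => by
    refine hnle fun a ha => himD ⟨a, ha⟩ ?_
    rw [h]; exact AddSubgroup.mem_top _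
  have hmoved : k₁ • (QuotientAddGroup.mk (⟨d₁, hd₁A⟩ : ↥A) : ↥A ⧸ J) ≠
      QuotientAddGroup.mk (⟨d₁, hd₁A⟩ : ↥A) := by
    rw [hsm, Ne, ← sub_eq_zero, ← QuotientAddGroup.mk_sub, hmk0]
    exact hd₁
  have hS : CountCore.Surj K M (im D) (im Zc) := by
    refine ⟨hc.sq, AddSubgroup.map_mono fun a ha => hc.zle ha, hne_top, ?_, ?_, ?_, ?_, huniq, hM,
      fun k hk h hkh hh => Above.mem_pCore_of_conj_mem hni hc huniq hk hkh hh, ?_, ?_⟩
    · intro k hk x
      induction x using QuotientAddGroup.induction_on with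
      | H a =>
        rw [hsm, ← QuotientAddGroup.mk_sub]
        exact him D _ (hc.mem_D k hk a)
    · rintro k hk _ ⟨a, ha, rfl⟩
      rw [QuotientAddGroup.mk'_apply, hsm, ← QuotientAddGroup.mk_sub]
      exact him Zc _ (hc.mem_Zc k hk a ha)
    · rintro k hk _ ⟨a, ha, rfl⟩
      rw [QuotientAddGroup.mk'_apply, hsm]
      exact congrArg _ (Subtype.ext (hc.fix_Zc k hk a ha))
    · rintro y hy _ ⟨d, hd, rfl⟩
      induction y using QuotientAddGroup.induction_on with
      | H a =>
        obtain ⟨k, hk, hz⟩ := hc.surj a (fun h => hy (him D a h)) d hd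
        refine ⟨k, hk, ?_⟩
        rw [QuotientAddGroup.mk'_apply, hsm, ← QuotientAddGroup.mk_sub, ← QuotientAddGroup.mk_sub]
        exact him Zc _ hz
    · intro Y hY hYD
      exact (hsimple Y hY).resolve_right fun h => hne_top (top_le_iff.1 (h ▸ hYD))
    · intro Y hY hDY
      refine (hsimple Y hY).resolve_left fun h => hmoved ?_
      have h1 : (QuotientAddGroup.mk (⟨d₁, hd₁A⟩ : ↥A) : ↥A ⧸ J) = 0 :=
        AddSubgroup.mem_bot.1 (h ▸ hDY (him D ⟨d₁, hd₁A⟩ hd₁D))
      rw [h1, smul_zero]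
  refine CountCore.count (fun x => ?_) hni hS
    ⟨k₁, hk₁, _, him D ⟨d₁, hd₁A⟩ hd₁D, hmoved⟩ fun q hq x => ?_
  · induction x using QuotientAddGroup.induction_on with
    | H a => rw [← QuotientAddGroup.mk_add, show a + a = 0 from Subtype.ext (h2 a)]; rfl
  · induction x using QuotientAddGroup.induction_on with
    | H a =>
      rw [hsm, ← sub_eq_zero, ← QuotientAddGroup.mk_sub, hmk0]
      exact hfacts.1 q hq a a.2

/-- The final case of Theorem T does not occur. -/
theorem finalStmt : Glue.FinalStmt.{u} := finalStmt_of_count countStmt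

end Cfsg.Agent.Lib.S0665.Final
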