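import Mathlib
import Cfsg.Agent.Lib.S0665.Final84
import Cfsg.Agent.Lib.S0665.CountCase85

/-!
# The final case of Theorem T

The count case closes the dichotomy, so the final case does not occur.
-/

set_option autoImplicit false

namespace Cfsg.Agent.Lib.S0665.Final85

open Cfsg Cfsg.Agent.Lib

universe u

/-- The count holds. -/
theorem countStmt : Glue.CountStmt.{u} := by
  intro L W _ _ _ _ _ _ h2 hni K M D Zc hc huniq hKQ hM hspan hA
  obtain ⟨A, hA, hex⟩ := hA
  exact CountCase85.countCase h2 hni hc huniq hKQ hM hspan hA hex

/-- **The final case does not occur.** -/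
theorem finalStmt : Glue.FinalStmt.{u} :=
  Glue.finalStmt_of_count countStmt

end Cfsg.Agent.Lib.S0665.Final85
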