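import Mathlib
import Cfsg.Agent.Lib.S0665.Above75

/-!
# Lemma X: few elements of `K` outside `O₂`

Let `(K, D, Zc)` be a configuration, `V ≤ D` invariant under `Q = O₂`, strict for `K`, with
conjugates spanning `W`, and let the conjugates of `K` generate the group. If in every invariant
subgroup `S` not inside `D` the index of `Q` in `K` is below the index of `D` in `S`, there is a
contradiction.

The proof takes a minimal `Q`-invariant `U ≤ V` whose orbit `S` is not inside `D`, so that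
`[S, Q]` lies in the core `I` of `D`. For a functional `φ` an element `s` of `K` with
`φ [[S, K ∩ Q], s] = 0` satisfies `φ [D, s] = 0`, by the index hypothesis. With this,
`N = [I, L]` lies in `V`, so the centraliser of `V` in `K` centralises `D`, and `K` is an offender
on `V`.
-/

set_option autoImplicit false
set_option linter.unusedSectionVars false

namespace Cfsg.Agent.Lib.S0665

open Subgroup Cfsg Cfsg.Agent.Lib
open Cfsg.Agent.Lib.SFourFree
open Cfsg.Agent.Lib.SFourFree.Closure (Stable orb orb_le le_orb stable_orb Strict centOn mem_centOn)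
open Cfsg.Agent.Lib.SFourFree.PMinimal (fix mem_fix)

universe u v

namespace LemmaX

variable {L : Type v} [Group L] [Finite L] {W : Type u} [AddCommGroup W] [Finite W]
  [DistribMulAction L W]

theorem sub_comm_of_commute {a b : L} (h : a * b = b * a) (w : W) :
    a • (b • w - w) - (b • w - w) = b • (a • w - w) - (a • w - w) := by
  simp only [smul_sub, ← mul_smul, h]
  abel

theorem neg_eq (h2 : ∀ w : W, w + w = 0) (w : W) : -w = w :=
  neg_eq_of_add_eq_zero_left (h2 w)

theorem smul_mul_sub (a b : L) (w : W) :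
    (a * b) • w - w = (a • w - w) + (b • w - w) + (a • (b • w - w) - (b • w - w)) := by
  rw [mul_smul, smul_sub]
  abel

theorem smul_dev (g q : L) (x : W) :
    g • (q • x - x) = (g * q * g⁻¹) • (g • x) - g • x := by
  rw [smul_sub, ← mul_smul, ← mul_smul, inv_mul_cancel_right]

/-- A functional vanishing on `X` and not at `w`. -/
theorem exists_separating (h2 : ∀ w : W, w + w = 0) {X : AddSubgroup W} {w : W} (hw : w ∉ X) :
    ∃ φ : W →+ ZMod 2, (∀ x ∈ X, φ x = 0) ∧ φ w ≠ 0 := by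
  have h2' : ∀ x : W ⧸ X, x + x = 0 := by
    intro x
    obtain ⟨x, rfl⟩ := QuotientAddGroup.mk'_surjective X x
    rw [← map_add, h2, map_zero]
  obtain ⟨f, hf⟩ := Gain.exists_hom_ne_zero h2' (a := QuotientAddGroup.mk' X w)
    (fun h => hw ((QuotientAddGroup.eq_zero_iff w).1 h))
  refine ⟨f.comp (QuotientAddGroup.mk' X), fun x hx => ?_, hf⟩
  show f (QuotientAddGroup.mk' X x) = 0
  rw [QuotientAddGroup.mk'_apply, (QuotientAddGroup.eq_zero_iff x).2 hx, map_zero]

/-- A 2-group moves an invariant subgroup into a proper one. -/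
theorem le_of_forall_dev {Q : Subgroup L} (hQ : IsPGroup 2 Q) (h2 : ∀ w : W, w + w = 0)
    {U N : AddSubgroup W} (hU : Stable Q U) (hN : Stable Q N)
    (h : ∀ H : AddSubgroup W, U ≤ H → (∀ q ∈ Q, ∀ n ∈ N, q • n - n ∈ H) → N ≤ H) : N ≤ U := by
  by_contra hNU
  have : Fact (Nat.Prime 2) := ⟨Nat.prime_two⟩
  have : WellFoundedGT (AddSubgroup W) := inferInstance
  obtain ⟨H, ⟨hHs, hUH, hHN, hne⟩, hmax⟩ := (wellFounded_gt (α := AddSubgroup W)).has_min
    {H | Stable Q H ∧ U ⊓ N ≤ H ∧ H ≤ N ∧ ¬ N ≤ H}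
    ⟨U ⊓ N, fun q hq x hx => ⟨hU q hq x hx.1, hN q hq x hx.2⟩, le_rfl, inf_le_right,
      fun hle => hNU (hle.trans inf_le_left)⟩
  let H' : AddSubgroup W :=
    { carrier := {n | n ∈ N ∧ ∀ q ∈ Q, q • n - n ∈ H}
      zero_mem' := ⟨N.zero_mem, fun q _ => by rw [smul_zero, sub_zero]; exact H.zero_mem⟩
      add_mem' := fun {a b} ha hb => ⟨N.add_mem ha.1 hb.1, fun q hq => by
        rw [smul_add, show q • a + q • b - (a + b) = (q • a - a) + (q • b - b) by abel]
        exact H.add_mem (ha.2 q hq) (hb.2 q hq)⟩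
      neg_mem' := fun {a} ha => ⟨N.neg_mem ha.1, fun q hq => by
        rw [smul_neg, show -(q • a) - -a = -(q • a - a) by abel]
        exact H.neg_mem (ha.2 q hq)⟩ }
  have hHH' : H ≤ H' := fun x hx => ⟨hHN hx, fun q hq => H.sub_mem (hHs q hq x hx) hx⟩
  have hH's : Stable Q H' := fun q hq x hx => ⟨hN q hq x hx.1, fun p hp => by
    have h1 := hHs q hq _ (hx.2 (q⁻¹ * p * q) (Q.mul_mem (Q.mul_mem (Q.inv_mem hq) hp) hq))
    rwa [smul_dev, show q * (q⁻¹ * p * q) * q⁻¹ = p by group] at h1⟩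
  have hlt : H < H' := by
    refine lt_of_le_of_ne hHH' fun he => ?_
    letI act : MulAction Q (W ⧸ H) :=
      { smul := fun q => QuotientAddGroup.map H H (DistribSMul.toAddMonoidHom W (q : L))
          (fun x hx => hHs q q.2 x hx)
        one_smul := fun x => by
          obtain ⟨x, rfl⟩ := QuotientAddGroup.mk'_surjective H x
          exact congrArg QuotientAddGroup.mk (one_smul L x)
        mul_smul := fun a b x => by
          obtain ⟨x, rfl⟩ := QuotientAddGroup.mk'_surjective H x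
          exact congrArg QuotientAddGroup.mk (mul_smul (a : L) b x) }
    let α : SubMulAction Q (W ⧸ H) :=
      { carrier := QuotientAddGroup.mk' H '' (N : Set W)
        smul_mem' := by
          rintro q _ ⟨x, hx, rfl⟩
          exact ⟨(q : L) • x, hN q q.2 x hx, rfl⟩ }
    have h0 : (0 : W ⧸ H) ∈ α := ⟨0, N.zero_mem, map_zero _⟩
    have hdvd : 2 ∣ Nat.card α := by
      obtain ⟨n, hn, hnH⟩ := Set.not_subset.1 hne
      let S : AddSubgroup (W ⧸ H) := N.map (QuotientAddGroup.mk' H)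
      have hcard : Nat.card α = Nat.card S := rfl
      have hmk : QuotientAddGroup.mk' H n ≠ 0 := fun hz =>
        hnH ((QuotientAddGroup.eq_zero_iff n).1 hz)
      have hord : addOrderOf (⟨QuotientAddGroup.mk' H n, n, hn, rfl⟩ : S) = 2 := by
        refine addOrderOf_eq_prime ?_ fun hz => hmk (congrArg Subtype.val hz)
        rw [two_nsmul]
        exact Subtype.ext (by
          show QuotientAddGroup.mk' H n + QuotientAddGroup.mk' H n = 0
          rw [← map_add, h2, map_zero])
      rw [hcard, ← hord]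
      exact addOrderOf_dvd_natCard _
    obtain ⟨⟨b, n, hn, rfl⟩, hfix, hb⟩ :=
      hQ.exists_fixed_point_of_prime_dvd_card_of_fixed_point (α := α) hdvd
        (a := ⟨0, h0⟩) (fun q => Subtype.ext (map_zero (QuotientAddGroup.map H H
          (DistribSMul.toAddMonoidHom W (q : L)) (fun x hx => hHs q q.2 x hx))))
    have hnH' : n ∈ H' := ⟨hn, fun q hq => by
      have h1 := congrArg Subtype.val (hfix ⟨q, hq⟩)
      change QuotientAddGroup.mk' H (q • n) = QuotientAddGroup.mk' H n at h1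
      have h2' : QuotientAddGroup.mk' H (q • n - n) = 0 := by rw [map_sub, h1, sub_self]
      exact (QuotientAddGroup.eq_zero_iff _).1 h2'⟩
    rw [← he] at hnH'
    exact hb (Subtype.ext ((QuotientAddGroup.eq_zero_iff n).2 hnH').symm)
  have hN' : N ≤ H' := by
    by_contra hcon
    exact hmax H' ⟨hH's, hUH.trans hHH', fun x hx => hx.1, hcon⟩ hlt
  have hle := h (U ⊔ H) le_sup_left fun q hq n hn =>
    AddSubgroup.mem_sup_right ((hN' hn).2 q hq)
  refine hne fun n hn => ?_
  obtain ⟨a, ha, b, hb, rfl⟩ := AddSubgroup.mem_sup.1 (hle hn)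
  refine H.add_mem (hUH ⟨ha, ?_⟩) hb
  simpa using N.sub_mem hn (hHN hb)

variable {K : Subgroup L} {D Zc : AddSubgroup W}

/-- Two elements of `K` differing inside the centraliser of `D` give images differing by a
vector fixed by `K`. -/
theorem fixed_of_cent (hc : Config K D Zc) {y : W} {c : L} (hcK : c ∈ K)
    (hcD : ∀ d ∈ D, c • d = d) : ∀ t ∈ K, t • (c • y - y) = c • y - y := by
  intro t ht
  have h1 := sub_comm_of_commute (W := W) (Above.comm_of_config hc t ht c hcK) y
  rw [hcD _ (hc.mem_D t ht y), sub_self] at h1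
  exact sub_eq_zero.1 h1

/-- **Orthogonality.** -/
theorem perp (hc : Config K D Zc) {S : AddSubgroup W}
    (hr : (pCore 2 L).relIndex K < D.relIndex S) {φ : W →+ ZMod 2} {s : L} (hs : s ∈ K)
    (h : ∀ y ∈ S, ∀ t ∈ K, t ∈ pCore 2 L →
      φ (s • (t • y - y) - (t • y - y)) = 0) :
    ∀ d ∈ D, φ (s • d - d) = 0 := by
  by_contra hcon
  push Not at hcon
  obtain ⟨d₀, hd₀, hne⟩ := hcon
  let B : L → S →+ ZMod 2 := fun t =>
    AddMonoidHom.mk' (fun y => φ (s • (t • (y : W) - y) - (t • (y : W) - y))) fun a b => by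
      rw [← map_add, AddSubgroup.coe_add]
      refine congrArg φ ?_
      simp only [smul_sub, smul_add]
      abel
  have hB : ∀ (t : L) (y : S), B t y = φ (s • (t • (y : W) - y) - (t • (y : W) - y)) :=
    fun _ _ => rfl
  have hBmul : ∀ a ∈ K, ∀ b ∈ K, B (a * b) = B a + B b := by
    intro a ha b hb
    refine AddMonoidHom.ext fun y => ?_
    rw [AddMonoidHom.add_apply, hB, hB, hB, smul_mul_sub a b (y : W), ← map_add]
    refine congrArg φ ?_
    have hz := hc.fix_Zc s hs _ (hc.mem_Zc a ha _ (hc.mem_D b hb (y : W)))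
    rw [smul_add, smul_add, hz]
    abel
  have hB1 : B 1 = 0 := AddMonoidHom.ext fun y => by
    rw [hB, one_smul, sub_self, smul_zero, sub_self, map_zero, AddMonoidHom.zero_apply]
  have hb2 : ∀ z : ZMod 2, z + z = 0 := by decide
  let R : AddSubgroup (S →+ ZMod 2) :=
    { carrier := {f | ∃ t ∈ K, B t = f}
      zero_mem' := ⟨1, K.one_mem, hB1⟩
      add_mem' := by
        rintro _ _ ⟨a, ha, rfl⟩ ⟨b, hb, rfl⟩
        exact ⟨a * b, K.mul_mem ha hb, hBmul a ha b hb⟩
      neg_mem' := by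
        rintro _ ⟨a, ha, rfl⟩
        refine ⟨a, ha, ?_⟩
        exact (neg_eq_of_add_eq_zero_left (Gain.hom_two hb2 (B a))).symm }
  have : Finite (S →+ ZMod 2) := Finite.of_injective _ DFunLike.coe_injective
  have : Finite (R →+ ZMod 2) := Finite.of_injective _ DFunLike.coe_injective
  have hR : Nat.card R ≤ (pCore 2 L).relIndex K := by
    refine Nat.card_le_card_of_surjective
      (fun x : K ⧸ (pCore 2 L).subgroupOf K =>
        (⟨B (x.out : K), (x.out : K), (x.out : K).2, rfl⟩ : R)) ?_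
    rintro ⟨_, t, ht, rfl⟩
    refine ⟨(⟨t, ht⟩ : K), Subtype.ext ?_⟩
    obtain ⟨k, hk⟩ := QuotientGroup.mk_out_eq_mul ((pCore 2 L).subgroupOf K) ⟨t, ht⟩
    have hk0 : B ((k : K) : L) = 0 := AddMonoidHom.ext fun y => h y y.2 _ (k : K).2 k.2
    show B ((⟦(⟨t, ht⟩ : K)⟧ : K ⧸ (pCore 2 L).subgroupOf K).out : K) = B t
    rw [show (⟦(⟨t, ht⟩ : K)⟧ : K ⧸ (pCore 2 L).subgroupOf K).out = ⟨t, ht⟩ * (k : K) from hk,
      Subgroup.coe_mul, hBmul t ht _ (k : K).2, hk0, add_zero]
  let ev : S →+ (R →+ ZMod 2) := AddMonoidHom.mk'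
    (fun y => AddMonoidHom.mk' (fun f => (f : S →+ ZMod 2) y) fun f g => by simp)
    fun a b => by ext f; simp
  have hker : ev.ker ≤ D.addSubgroupOf S := by
    intro y hy
    by_contra hyD
    obtain ⟨t, ht, hz⟩ := hc.surj (y : W) hyD d₀ hd₀
    have h1 : ev y ⟨B t, t, ht, rfl⟩ = 0 := by
      rw [AddMonoidHom.mem_ker.1 hy, AddMonoidHom.zero_apply]
    change φ (s • (t • (y : W) - y) - (t • (y : W) - y)) = 0 at h1
    refine hne ?_
    rw [← h1]
    refine congrArg φ ?_
    have h3 := hc.fix_Zc s hs _ hz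
    rw [smul_sub] at h3
    rw [sub_eq_sub_iff_sub_eq_sub.1 h3]
  have h3 : D.relIndex S ≤ Nat.card R := by
    rw [← Gain.card_hom_zmod_two (A := R) fun f => Subtype.ext (Gain.hom_two hb2 _)]
    calc D.relIndex S ≤ ev.ker.index :=
          Nat.le_of_dvd (Nat.pos_of_ne_zero AddSubgroup.index_ne_zero_of_finite)
            (AddSubgroup.index_dvd_of_le hker)
      _ = Nat.card ev.range := AddSubgroup.index_ker ev
      _ ≤ _ := Nat.card_le_card_of_injective _ Subtype.val_injective
  omega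

/-- The commutators of `I` with the group. -/
def comm (L : Type v) [Group L] {W : Type u} [AddCommGroup W] [DistribMulAction L W]
    (Q : Set L) (I : AddSubgroup W) : AddSubgroup W :=
  AddSubgroup.closure {x | ∃ q ∈ Q, ∃ i ∈ I, x = q • i - i}

theorem mem_comm {Q : Set L} {I : AddSubgroup W} {q : L} (hq : q ∈ Q) {i : W} (hi : i ∈ I) :
    q • i - i ∈ comm L Q I :=
  AddSubgroup.subset_closure ⟨q, hq, i, hi, rfl⟩

theorem comm_le {Q : Set L} {I : AddSubgroup W} (hI : Gain.Inv L I) : comm L Q I ≤ I :=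
  (AddSubgroup.closure_le _).2 fun _ ⟨q, _, i, hi, he⟩ => he ▸ I.sub_mem (hI q i hi) hi

theorem comm_inv {Q : Set L} (hQ : ∀ g, ∀ q ∈ Q, g * q * g⁻¹ ∈ Q) {I : AddSubgroup W}
    (hI : Gain.Inv L I) : Gain.Inv L (comm L Q I) := by
  intro g
  suffices comm L Q I ≤ (comm L Q I).comap (DistribSMul.toAddMonoidHom W g) from
    fun x hx => this hx
  rw [comm, AddSubgroup.closure_le]
  rintro _ ⟨q, hq, i, hi, rfl⟩
  show g • (q • i - i) ∈ comm L Q I
  rw [smul_dev]
  exact mem_comm (hQ g q hq) (hI g i hi)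

end LemmaX

variable {L : Type v} [Group L] [Finite L] {W : Type u} [AddCommGroup W] [Finite W]
  [DistribMulAction L W] {K : Subgroup L} {D Zc : AddSubgroup W}

open LemmaX in
/-- A configuration moves `D`, if `K` is no offender. -/
theorem Config.exists_beta_ne (hc : Config K D Zc) (_h2 : ∀ w : W, w + w = 0)
    (hs : Strict K (⊤ : AddSubgroup W)) : ∃ k ∈ K, ∃ d ∈ D, k • d ≠ d := by
  by_contra hcon
  push Not at hcon
  obtain ⟨y, hy⟩ : ∃ y, y ∉ D := by
    by_contra hall
    push Not at hall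
    exact hc.ne_top (eq_top_iff.2 fun w _ => hall w)
  obtain ⟨k, hk, hk1⟩ := (Subgroup.bot_or_exists_ne_one K).resolve_left hc.ne_bot
  have hcent : ∀ c ∈ K, c ∈ centOn (⊤ : AddSubgroup W) → c = 1 := by
    intro c hcK hcW
    refine hc.inj y hy c hcK ?_
    rw [hcW y (AddSubgroup.mem_top _), sub_self]
    exact Zc.zero_mem
  have h1 := hs K le_rfl (fun a ha w _ => by rw [← mul_smul, ← pow_two, hc.sq a ha, one_smul])
    fun hle => hk1 (hcent k hk (hle hk))
  have hrel : (centOn (⊤ : AddSubgroup W) : Subgroup L).relIndex K = Nat.card K := by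
    rw [Subgroup.relIndex, show (centOn (⊤ : AddSubgroup W) : Subgroup L).subgroupOf K = ⊥ from
      (eq_bot_iff_forall _).2 fun c hcm => Subtype.ext (hcent c c.2 hcm), Subgroup.index_bot]
  rw [hrel, top_inf_eq, AddSubgroup.card_top] at h1
  have hF : Nat.card D ≤ Nat.card (fix W K) :=
    AddSubgroup.card_le_of_le fun d hd c hcK => hcon c hcK d hd
  choose f hf hfz using fun x : W ⧸ D => hc.surj y hy (k • x.out - x.out) (hc.mem_D k hk _)
  have hinj : Function.Injective fun x : W ⧸ D => (⟨f x, hf x⟩ : K) := by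
    intro x x' hxx
    have he : f x = f x' := congrArg Subtype.val hxx
    have h3 := Zc.sub_mem (he ▸ hfz x) (hfz x')
    rw [sub_sub_sub_cancel_left] at h3
    rw [show k • x'.out - x'.out - (k • x.out - x.out) =
      k • (x'.out - x.out) - (x'.out - x.out) by rw [smul_sub]; abel] at h3
    rw [← QuotientAddGroup.out_eq' x, ← QuotientAddGroup.out_eq' x']
    refine (QuotientAddGroup.eq.2 ?_)
    by_contra hnD
    refine hk1 (hc.inj _ ?_ k hk h3)
    rwa [show x'.out - x.out = -x.out + x'.out by abel]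
  have hle : Nat.card W ≤ Nat.card K * Nat.card (fix W K) := by
    rw [AddSubgroup.card_eq_card_quotient_mul_card_addSubgroup D]
    exact Nat.mul_le_mul (Nat.card_le_card_of_injective _ hinj) hF
  omega

open LemmaX in
/-- **Lemma X.** -/
theorem lemmaX (h2 : ∀ w : W, w + w = 0) (hc : Config K D Zc) (V : AddSubgroup W)
    (hVQ : Stable (pCore 2 L) V) (hVK : Strict K V) (hVD : V ≤ D)
    (hspan : orb (⊤ : Subgroup L) V = ⊤) (hgen : Subgroup.normalClosure (K : Set L) = ⊤)
    (hbeta : ∃ k ∈ K, ∃ d ∈ D, k • d ≠ d)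
    (hsec : ∀ S, Stable (⊤ : Subgroup L) S → ¬ S ≤ D →
      (pCore 2 L).relIndex K < D.relIndex S) : False := by
  have : Fact (Nat.Prime 2) := ⟨Nat.prime_two⟩
  set Q := pCore 2 L with hQdef
  have hQn : Q.Normal := by
    have := PSolvable.pCore_characteristic (p := 2) (G := L)
    infer_instance
  have hconj : ∀ g, ∀ q ∈ Q, g * q * g⁻¹ ∈ Q := fun g q hq => hQn.conj_mem q hq g
  have hQ2 : IsPGroup 2 Q := PSolvable.pCore_isPGroup
  -- a minimal part of `V` with orbit outside `D`
  obtain ⟨U, ⟨hUQ, hUV, hUD⟩, hmin⟩ := (wellFounded_lt (α := AddSubgroup W)).has_min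
    {U | Stable Q U ∧ U ≤ V ∧ ¬ orb (⊤ : Subgroup L) U ≤ D}
    ⟨V, hVQ, le_rfl, by rw [hspan]; exact fun h => hc.ne_top (eq_top_iff.2 h)⟩
  set S := orb (⊤ : Subgroup L) U with hSdef
  set U' : AddSubgroup W := AddSubgroup.closure {x | ∃ q ∈ Q, ∃ u ∈ U, x = q • u - u} with hU'def
  have hU'U : U' ≤ U :=
    (AddSubgroup.closure_le _).2 fun x ⟨q, hq, u, hu, he⟩ => he ▸ U.sub_mem (hUQ q hq u hu) hu
  have hU'Q : Stable Q U' := by
    intro g hg
    suffices U' ≤ U'.comap (DistribSMul.toAddMonoidHom W g) from fun x hx => this hx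
    rw [hU'def, AddSubgroup.closure_le]
    rintro _ ⟨q, hq, u, hu, rfl⟩
    show g • (q • u - u) ∈ U'
    rw [smul_dev]
    exact AddSubgroup.subset_closure ⟨_, hconj g q hq, _, hUQ g hg u hu, rfl⟩
  have hU'D : orb (⊤ : Subgroup L) U' ≤ D := by
    by_contra hnot
    have hUle : U ≤ U' := not_not.1 fun hne =>
      hmin U' ⟨hU'Q, hU'U.trans hUV, hnot⟩ (lt_of_le_not_ge hU'U hne)
    have h0 : U ≤ ⊥ := le_of_forall_dev hQ2 h2
      (fun q _ x hx => by rw [AddSubgroup.mem_bot] at hx ⊢; rw [hx, smul_zero]) hUQ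
      fun H _ hH => hUle.trans ((AddSubgroup.closure_le _).2 fun x ⟨q, hq, u, hu, he⟩ =>
        he ▸ hH q hq u hu)
    exact hUD ((orb_le (h0.trans bot_le) fun g _ x hx => by
      rw [AddSubgroup.mem_bot] at hx ⊢; rw [hx, smul_zero]).trans bot_le)
  set I := Above.core L D with hIdef
  have hIinv : Gain.Inv L I := Above.core_inv D
  have hU'I : U' ≤ I := fun x hx =>
    Above.le_core (fun g x hx => stable_orb _ _ g (mem_top g) x hx) hU'D (le_orb _ _ hx)
  set N := comm L (Set.univ : Set L) I with hNdef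
  have hNinv : Gain.Inv L N := comm_inv (fun _ _ _ => Set.mem_univ _) hIinv
  have hNI : N ≤ I := comm_le hIinv
  set NQ := comm L (Q : Set L) N with hNQdef
  have hNQinv : Gain.Inv L NQ := comm_inv hconj hNinv
  set P0 := (V ⊓ N) ⊔ NQ with hP0def
  set X := Above.core L P0 with hXdef
  have hSD : ¬ S ≤ D := hUD
  have hrS : Q.relIndex K < D.relIndex S := hsec S (stable_orb _ _) hSD
  -- (1)
  have hdec : ∀ t ∈ Q, ∀ y ∈ S, t • y - y ∈ (V ⊓ I) ⊔ N := by
    intro t ht
    let T1 : AddSubgroup W :=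
      ((V ⊓ I) ⊔ N).comap ((DistribSMul.toAddMonoidHom W t) - AddMonoidHom.id W)
    suffices S ≤ T1 from fun y hy => this hy
    rw [hSdef, orb, AddSubgroup.closure_le]
    rintro _ ⟨l, -, u, hu, rfl⟩
    show t • (l • u) - l • u ∈ (V ⊓ I) ⊔ N
    set v := (l⁻¹ * t * l⁻¹⁻¹) • u - u with hv
    have hvU' : v ∈ U' := AddSubgroup.subset_closure ⟨_, hconj l⁻¹ t ht, u, hu, rfl⟩
    have he : t • (l • u) - l • u = v + (l • v - v) := by
      rw [add_sub_cancel, hv, smul_dev]
      congr 2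
      group
    rw [he]
    exact AddSubgroup.add_mem _ (AddSubgroup.mem_sup_left ⟨hUV (hU'U hvU'), hU'I hvU'⟩)
      (AddSubgroup.mem_sup_right (mem_comm (Set.mem_univ l) (hU'I hvU')))
  -- (2)
  have hX2 : ∀ y ∈ S, ∀ t ∈ Q, ∀ t' ∈ Q, t' • (t • y - y) - (t • y - y) ∈ X := by
    intro y hy t ht t' ht' l
    obtain ⟨v, hv, ν, hν, he⟩ := AddSubgroup.mem_sup.1 (hdec t ht y hy)
    rw [← he]
    set t'' := l * t' * l⁻¹ with ht''def
    have ht'' : t'' ∈ Q := hconj l t' ht'
    have e1 : l • (t' • (v + ν) - (v + ν)) = (t'' • v - v) +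
        ((t'' • (l • v - v) - (l • v - v)) + (t'' • (l • ν) - l • ν)) := by
      rw [smul_dev, ← ht''def, smul_add, smul_add, smul_sub]
      abel
    rw [e1]
    refine AddSubgroup.add_mem _ (AddSubgroup.mem_sup_left
      ⟨V.sub_mem (hVQ t'' ht'' v hv.1) hv.1, mem_comm (Set.mem_univ t'') hv.2⟩)
      (AddSubgroup.mem_sup_right (AddSubgroup.add_mem _ ?_ ?_))
    · exact mem_comm ht'' (mem_comm (Set.mem_univ l) hv.2)
    · exact mem_comm ht'' (hNinv l ν hν)
  have hDX : ∀ k ∈ K, ∀ d ∈ D, k • d - d ∈ X := by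
    intro k hk d hd
    by_contra hkd
    obtain ⟨φ, hφX, hφ⟩ := exists_separating h2 hkd
    have h0 : ∀ s ∈ K, s ∈ Q → ∀ d ∈ D, φ (s • d - d) = 0 := fun s hs hsQ =>
      perp hc hrS hs fun y hy t _ htQ => hφX _ (hX2 y hy t htQ s hsQ)
    refine hφ (perp hc hrS hk (fun y hy t ht htQ => ?_) d hd)
    rw [sub_comm_of_commute (Above.comm_of_config hc k hk t ht)]
    exact h0 t ht htQ _ (hc.mem_D k hk y)
  have hXinv : Gain.Inv L X := Above.core_inv P0
  have hNX : N ≤ X := by
    let H : Subgroup L :=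
      { carrier := {g | ∀ i ∈ I, g • i - i ∈ X}
        one_mem' := fun i _ => by rw [one_smul, sub_self]; exact X.zero_mem
        mul_mem' := fun {a b} ha hb i hi => by
          rw [show (a * b) • i - i = a • (b • i - i) + (a • i - i) by
            rw [smul_sub, mul_smul]; abel]
          exact X.add_mem (hXinv a _ (hb i hi)) (ha i hi)
        inv_mem' := fun {a} ha i hi => by
          rw [show a⁻¹ • i - i = -(a⁻¹ • (a • i - i)) by rw [smul_sub, inv_smul_smul, neg_sub]]
          exact X.neg_mem (hXinv a⁻¹ _ (ha i hi)) }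
    have : H.Normal := ⟨fun g hg h i hi => by
      rw [show (h * g * h⁻¹) • i - i = h • (g • (h⁻¹ • i) - h⁻¹ • i) by
        rw [smul_sub, smul_inv_smul, ← mul_smul, ← mul_smul, mul_assoc]]
      exact hXinv h _ (hg _ (hIinv h⁻¹ i hi))⟩
    have hKH : (K : Set L) ⊆ H := fun k hk i hi => hDX k hk i (Above.core_le D hi)
    have hH : H = ⊤ := eq_top_iff.2 (hgen ▸ Subgroup.normalClosure_le_normal hKH)
    rw [hNdef, LemmaX.comm, AddSubgroup.closure_le]
    rintro _ ⟨g, -, i, hi, rfl⟩
    exact (hH ▸ mem_top g : g ∈ H) i hi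
  have hNV : N ≤ V := by
    refine le_of_forall_dev hQ2 h2 (U := V) hVQ (fun q _ x hx => hNinv q x hx) fun H hVH hH => ?_
    refine hNX.trans ((Above.core_le P0).trans (sup_le (inf_le_left.trans hVH) ?_))
    rw [hNQdef, LemmaX.comm, AddSubgroup.closure_le]
    rintro _ ⟨q, hq, n, hn, rfl⟩
    exact hH q hq n hn
  -- (3)
  have hcentD : ∀ s ∈ K, s ∈ centOn V → ∀ d ∈ D, s • d = d := by
    intro s hs hsV d hd
    by_contra hne
    obtain ⟨φ, -, hφ⟩ := exists_separating h2 (X := (⊥ : AddSubgroup W)) (w := s • d - d)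
      (by rw [AddSubgroup.mem_bot, sub_eq_zero]; exact hne)
    refine hφ (perp hc hrS hs (fun y hy t _ htQ => ?_) d hd)
    obtain ⟨v, hv, ν, hν, he⟩ := AddSubgroup.mem_sup.1 (hdec t htQ y hy)
    rw [← he, smul_add, hsV v hv.1, hsV ν (hNV hν), sub_self, map_zero]
  -- (4)
  obtain ⟨k₀, hk₀, d₀, hd₀, hkd⟩ := hbeta
  have hlt := hVK K le_rfl (fun a ha w _ => by rw [← mul_smul, ← pow_two, hc.sq a ha, one_smul])
    fun hle => hkd (hcentD k₀ hk₀ (hle hk₀) d₀ hd₀)
  obtain ⟨y, hy⟩ : ∃ y, y ∉ D := by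
    by_contra hall
    push Not at hall
    exact hc.ne_top (eq_top_iff.2 fun w _ => hall w)
  set F := fix W K with hFdef
  choose f hf hfz using fun x : V ⧸ F.addSubgroupOf V => hc.surj y hy _ (hVD x.out.2)
  have hinj : Function.Injective fun x : V ⧸ F.addSubgroupOf V =>
      (QuotientGroup.mk (⟨f x, hf x⟩ : K) : K ⧸ (centOn V : Subgroup L).subgroupOf K) := by
    intro x x' hxx
    have hmem : (f x)⁻¹ * f x' ∈ centOn V := by
      have := QuotientGroup.eq.1 hxx
      exact this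
    have hcK : (f x)⁻¹ * f x' ∈ K := K.mul_mem (K.inv_mem (hf x)) (hf x')
    set c := (f x)⁻¹ * f x' with hcdef
    have hcD := hcentD c hcK hmem
    have hfx' : f x' = f x * c := by rw [hcdef, mul_inv_cancel_left]
    rw [← QuotientAddGroup.out_eq' x, ← QuotientAddGroup.out_eq' x']
    refine QuotientAddGroup.eq.2 ?_
    show -((x.out : V) : W) + (x'.out : V) ∈ fix W K
    have e : -((x.out : V) : W) + (x'.out : V) =
        f x • (c • y - y) + ((f x • y - y - (x.out : V)) - (f x' • y - y - (x'.out : V))) := by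
      rw [show f x' • y = f x • (c • y) by rw [hfx', mul_smul], smul_sub]
      abel
    rw [e]
    refine AddSubgroup.add_mem _ ?_ (fun t ht => hc.fix_Zc t ht _ (Zc.sub_mem (hfz x) (hfz x')))
    intro t ht
    rw [fixed_of_cent hc hcK hcD (f x) (hf x)]
    exact fixed_of_cent hc hcK hcD t ht
  have hcard : Nat.card V ≤ (centOn V : Subgroup L).relIndex K * Nat.card ↥(V ⊓ F) := by
    rw [AddSubgroup.card_eq_card_quotient_mul_card_addSubgroup (F.addSubgroupOf V)]
    refine Nat.mul_le_mul (Nat.card_le_card_of_injective _ hinj) (le_of_eq ?_)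
    rw [← AddSubgroup.inf_addSubgroupOf_right, inf_comm]
    exact Nat.card_congr (AddSubgroup.addSubgroupOfEquivOfLe inf_le_left).toEquiv
  exact absurd hlt (not_lt.2 hcard)

end Cfsg.Agent.Lib.S0665
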